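import Mathlib

/-!
# Kummer extensions of Dedekind domains
-/

set_option autoImplicit false
universe u v w

open scoped nonZeroDivisors
open Polynomial FractionalIdeal
attribute [local instance] FractionRing.liftAlgebra FractionRing.isScalarTower_liftAlgebra

namespace Kummer24

variable {A : Type u} {K : Type v} [CommRing A] [IsDedekindDomain A] [Field K] [Algebra A K]
  [IsFractionRing A K]

/-- An invertible fractional ideal is principal near each prime. -/
theorem exists_local_generator {I : FractionalIdeal A⁰ K} (hI : I ≠ 0) (P : Ideal A) [P.IsPrime] :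
    ∃ g j : K, ∃ s : A, g ∈ I ∧ j ∈ I⁻¹ ∧ algebraMap A K s = g * j ∧ s ∉ P := by
  by_contra hcon
  push Not at hcon
  have h1 : I * I⁻¹ ≤ (P : FractionalIdeal A⁰ K) := by
    refine FractionalIdeal.mul_le.mpr fun g hg j hj => ?_
    have hgj : g * j ∈ (1 : FractionalIdeal A⁰ K) := by
      rw [← mul_inv_cancel₀ hI]; exact FractionalIdeal.mul_mem_mul hg hj
    obtain ⟨s, hs⟩ := (FractionalIdeal.mem_one_iff A⁰).mp hgj
    exact (FractionalIdeal.mem_coeIdeal A⁰).mpr ⟨s, hcon g j s hg hj hs, hs⟩
  rw [mul_inv_cancel₀ hI] at h1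
  obtain ⟨x, hxP, hx⟩ := (FractionalIdeal.mem_coeIdeal A⁰).mp (h1 ((FractionalIdeal.mem_one_iff A⁰).mpr ⟨1, rfl⟩))
  rw [IsFractionRing.injective A K hx] at hxP
  exact Ideal.IsPrime.ne_top ‹_› ((Ideal.eq_top_iff_one _).mpr hxP)

theorem pow_mem_pow {I : FractionalIdeal A⁰ K} {x : K} (hx : x ∈ I) : ∀ n : ℕ, x ^ n ∈ I ^ n
  | 0 => by rw [pow_zero, pow_zero]; exact FractionalIdeal.one_mem_one A⁰
  | n + 1 => by rw [pow_succ, pow_succ]; exact FractionalIdeal.mul_mem_mul (pow_mem_pow hx n) hx

/-- Local equations of `f` when `(f) = I ^ n`. -/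
theorem exists_local_equation {I : FractionalIdeal A⁰ K} {f : K} (hf : f ≠ 0) {n : ℕ} (hn : n ≠ 0)
    (hI : spanSingleton A⁰ f = I ^ n) (P : Ideal A) [P.IsPrime] :
    ∃ (j : K) (c : A), j ≠ 0 ∧ algebraMap A K c = j ^ n * f ∧ c ∉ P := by
  have hI0 : I ≠ 0 := fun h => hf (by
    rw [h, zero_pow hn, spanSingleton_eq_zero_iff] at hI; exact hI)
  obtain ⟨g, j, s, hg, hj, hs, hsP⟩ := exists_local_generator hI0 P
  have hc : j ^ n * f ∈ (1 : FractionalIdeal A⁰ K) := by
    have h2 : I⁻¹ ^ n * I ^ n = 1 := by rw [← mul_pow, inv_mul_cancel₀ hI0, one_pow]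
    rw [← h2]
    exact FractionalIdeal.mul_mem_mul (pow_mem_pow hj n) (hI ▸ mem_spanSingleton_self A⁰ f)
  obtain ⟨c, hc⟩ := (FractionalIdeal.mem_one_iff A⁰).mp hc
  have hgn : g ^ n ∈ spanSingleton A⁰ f := hI ▸ pow_mem_pow hg n
  obtain ⟨d, hd⟩ := (mem_spanSingleton A⁰).mp hgn
  have hs0 : algebraMap A K s ≠ 0 := (map_ne_zero_iff _ (IsFractionRing.injective A K)).mpr
    fun h => hsP (h ▸ P.zero_mem)
  refine ⟨j, c, right_ne_zero_of_mul (hs ▸ hs0), hc, fun hcP => hsP ?_⟩
  have hcd : c * d = s ^ n := IsFractionRing.injective A K (by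
    rw [map_mul, map_pow, hc, hs, mul_pow, ← hd, Algebra.smul_def]; ring)
  exact Ideal.IsPrime.mem_of_pow_mem ‹_› n (hcd ▸ P.mul_mem_right d hcP)

/-- Powers of fractional ideals determine them. -/
theorem eq_of_pow_eq_pow {I J : FractionalIdeal A⁰ K} (hI : I ≠ 0) (hJ : J ≠ 0) {n : ℕ} (hn : n ≠ 0)
    (h : I ^ n = J ^ n) : I = J := by
  rw [← finprod_heightOneSpectrum_factorization' K hI, ← finprod_heightOneSpectrum_factorization' K hJ]
  refine finprod_congr fun v => ?_
  have h1 := congrArg (count K v) h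
  rw [count_pow, count_pow] at h1
  rw [mul_left_cancel₀ (Int.natCast_ne_zero.mpr hn) h1]

variable {L : Type w} [Field L] [Algebra K L]

theorem radical_facts {n : ℕ} (hn : (n : K) ≠ 0) {f : K} (hf : f ≠ 0) {α : L}
    (hα : α ^ n = algebraMap K L f) (hgen : IntermediateField.adjoin K {α} = ⊤) :
    FiniteDimensional K L ∧ Algebra.IsSeparable K L ∧ Algebra.adjoin K {α} = ⊤ := by
  have hn0 : n ≠ 0 := fun h => hn (by rw [h, Nat.cast_zero])
  have hroot : aeval α (X ^ n - C f) = 0 := by rw [map_sub, map_pow, aeval_X, aeval_C, hα, sub_self]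
  have hint : IsIntegral K α := ⟨_, monic_X_pow_sub_C f hn0, hroot⟩
  have hadj : Algebra.adjoin K ({α} : Set L) = ⊤ := by
    rw [← IntermediateField.adjoin_simple_toSubalgebra_of_isAlgebraic hint.isAlgebraic, hgen,
      IntermediateField.top_toSubalgebra]
  have hfin : FiniteDimensional K L := by
    have := IntermediateField.adjoin.finiteDimensional hint
    rw [hgen] at this
    exact IntermediateField.topEquiv.toLinearEquiv.finiteDimensional
  refine ⟨hfin, ?_, hadj⟩
  have hsep : IsSeparable K α := (separable_X_pow_sub_C f hn hf).of_dvd (minpoly.dvd K α hroot)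
  refine ⟨fun x => mem_separableClosure_iff.mp ?_⟩
  have hle : Algebra.adjoin K ({α} : Set L) ≤ (separableClosure K L).toSubalgebra :=
    Algebra.adjoin_le (Set.singleton_subset_iff.mpr (mem_separableClosure_iff.mpr hsep))
  exact hle (hadj ▸ Algebra.mem_top)

/-- The normalisation in a radical extension attached to an `n`-divisible divisor is étale. -/
theorem etale_integralClosure [Algebra A L] [IsScalarTower A K L] {n : ℕ} (hn : IsUnit (n : A))
    {f : K} (hf : f ≠ 0) {I : FractionalIdeal A⁰ K} (hI : spanSingleton A⁰ f = I ^ n) {α : L}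
    (hα : α ^ n = algebraMap K L f) (hgen : IntermediateField.adjoin K {α} = ⊤) :
    Algebra.Etale A (integralClosure A L) ∧ Module.Finite A (integralClosure A L) := by
  classical
  have hnK : (n : K) ≠ 0 := by
    rw [← map_natCast (algebraMap A K)]; exact (hn.map (algebraMap A K)).ne_zero
  have hn0 : n ≠ 0 := fun h => hnK (by rw [h, Nat.cast_zero])
  obtain ⟨hfinL, hsepL, hadj⟩ := radical_facts hnK hf hα hgen
  set B := integralClosure A L
  have hfinB : Module.Finite A B := IsIntegralClosure.finite A K L B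
  have : IsDedekindDomain B := IsIntegralClosure.isDedekindDomain A K L B
  have : IsFractionRing B L := IsIntegralClosure.isFractionRing_of_finite_extension A K L B
  have hinjA : Function.Injective (algebraMap A L) := by
    rw [IsScalarTower.algebraMap_eq A K L]
    exact (algebraMap K L).injective.comp (IsFractionRing.injective A K)
  have : Module.IsTorsionFree A B := by
    have : FaithfulSMul A B := (faithfulSMul_iff_algebraMap_injective A B).mpr fun x y h =>
      hinjA (congrArg Subtype.val h :)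
    infer_instance
  have : Algebra.IsSeparable (FractionRing A) (FractionRing B) := by
    refine Algebra.IsSeparable.of_equiv_equiv (FractionRing.algEquiv A K).symm.toRingEquiv
      (FractionRing.algEquiv B L).symm.toRingEquiv ?_
    refine IsLocalization.ringHom_ext A⁰ ?_
    ext
    simp only [RingHom.coe_comp, RingHom.coe_coe, AlgEquiv.coe_ringEquiv, Function.comp_apply,
      AlgEquiv.commutes, ← IsScalarTower.algebraMap_apply]
    rw [IsScalarTower.algebraMap_apply A B L, AlgEquiv.commutes, ← IsScalarTower.algebraMap_apply]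
  refine ⟨?_, hfinB⟩
  have hfp : Algebra.FinitePresentation A B :=
    Algebra.FinitePresentation.of_finiteType.mp (Algebra.FiniteType.of_restrictScalars_finiteType A A B)
  have hur : Algebra.FormallyUnramified A B := by
    rw [← Algebra.unramifiedLocus_eq_univ_iff, Set.eq_univ_iff_forall]
    intro Q
    show Algebra.IsUnramifiedAt A Q.asIdeal
    rw [← not_dvd_differentIdeal_iff (A := A) (B := B)]
    intro hdvd
    obtain ⟨j, c, hj, hc, hcP⟩ := exists_local_equation hf hn0 hI (Q.asIdeal.under A)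
    let β₀ : L := algebraMap K L j * α
    have hβn : β₀ ^ n = algebraMap A L c := by
      rw [mul_pow, hα, ← map_pow, ← map_mul, ← hc, ← IsScalarTower.algebraMap_apply]
    have hβint : IsIntegral A β₀ := IsIntegral.of_pow (Nat.pos_of_ne_zero hn0) (hβn ▸ isIntegral_algebraMap)
    let β : B := ⟨β₀, hβint⟩
    have htop : Algebra.adjoin K {algebraMap B L β} = ⊤ := by
      rw [eq_top_iff, ← hadj]
      refine Algebra.adjoin_le (Set.singleton_subset_iff.mpr ?_)
      have hα' : α = algebraMap K L j⁻¹ * β₀ := by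
        rw [← mul_assoc, ← map_mul, inv_mul_cancel₀ hj, map_one, one_mul]
      rw [SetLike.mem_coe, hα']
      exact mul_mem (Subalgebra.algebraMap_mem _ _) (Algebra.self_mem_adjoin_singleton K (algebraMap B L β))
    have hmem := aeval_derivative_mem_differentIdeal A K L β htop
    have hle : differentIdeal A B ≤ Q.asIdeal := Ideal.dvd_iff_le.mp hdvd
    have hβeq : β ^ n = algebraMap A B c := Subtype.ext hβn
    have hroot : aeval β (X ^ n - C c) = 0 := by
      rw [map_sub, map_pow, aeval_X, aeval_C, hβeq, sub_self]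
    obtain ⟨h, hh⟩ := minpoly.isIntegrallyClosed_dvd (Algebra.IsIntegral.isIntegral β) hroot
    have hder : (n : B) * β ^ (n - 1) ∈ Q.asIdeal := by
      have h1 := congrArg (fun q => aeval β (derivative q)) hh
      simp only [derivative_sub, derivative_X_pow, derivative_C, sub_zero, derivative_mul, map_mul,
        map_add, aeval_C, map_pow, aeval_X, map_natCast, minpoly.aeval, zero_mul, add_zero] at h1
      rw [h1]
      exact Ideal.mul_mem_right _ _ (hle hmem)
    have hnu : IsUnit (n : B) := by rw [← map_natCast (algebraMap A B)]; exact hn.map _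
    have hβn1 : β ^ n ∈ Q.asIdeal := by
      obtain ⟨k, rfl⟩ : ∃ k, n = k + 1 := ⟨n - 1, by omega⟩
      rw [pow_succ]
      exact Ideal.mul_mem_right _ _ ((Ideal.unit_mul_mem_iff_mem _ hnu).mp hder)
    exact hcP (by rw [Ideal.under_def, Ideal.mem_comap, ← hβeq]; exact hβn1)
  exact Algebra.Etale.of_formallyUnramified_of_flat

/-- An `n`-th root of an element whose divisor has class of exact order `n` generates a cyclic
extension of degree `n`. -/
theorem cyclic_of_orderOf {n : ℕ} (hn : IsUnit (n : A)) {ζ : K} (hζ : IsPrimitiveRoot ζ n) {f : K}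
    (hf : f ≠ 0) (I : (FractionalIdeal A⁰ K)ˣ)
    (hI : spanSingleton A⁰ f = (I : FractionalIdeal A⁰ K) ^ n)
    (hord : orderOf (ClassGroup.mk K I) = n) {α : L} (hα : α ^ n = algebraMap K L f)
    (hgen : IntermediateField.adjoin K {α} = ⊤) :
    IsGalois K L ∧ IsCyclic (L ≃ₐ[K] L) ∧ Module.finrank K L = n := by
  classical
  have hnK : (n : K) ≠ 0 := by
    rw [← map_natCast (algebraMap A K)]; exact (hn.map (algebraMap A K)).ne_zero
  have hn0 : n ≠ 0 := fun h => hnK (by rw [h, Nat.cast_zero])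
  have : NeZero n := ⟨hn0⟩
  obtain ⟨hfinL, hsepL, hadj⟩ := radical_facts hnK hf hα hgen
  have hα0 : α ≠ 0 := fun h => hf ((algebraMap K L).injective (by
    rw [← hα, h, zero_pow hn0, map_zero]))
  have hζL := hζ.map_of_injective (algebraMap K L).injective
  have hsplit : ((X ^ n - C f).map (algebraMap K L)).Splits := by
    rw [Polynomial.map_sub, Polynomial.map_pow, map_X, map_C]
    exact X_pow_sub_C_splits_of_isPrimitiveRoot hζL hα
  have : (X ^ n - C f).IsSplittingField K L := ⟨hsplit, by
    rw [eq_top_iff, ← hadj]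
    refine Algebra.adjoin_mono (Set.singleton_subset_iff.mpr ?_)
    rw [mem_rootSet]
    exact ⟨(monic_X_pow_sub_C f hn0).ne_zero, by rw [map_sub, map_pow, aeval_X, aeval_C, hα, sub_self]⟩⟩
  have hgal : IsGalois K L := IsGalois.of_separable_splitting_field (separable_X_pow_sub_C f hnK hf)
  -- the character
  have hσ : ∀ σ : L ≃ₐ[K] L, ∃ i : ℕ, σ α = algebraMap K L ζ ^ i * α := by
    intro σ
    obtain ⟨i, -, hi⟩ := hζL.eq_pow_of_pow_eq_one (ξ := σ α / α) (by
      rw [div_pow, ← map_pow, hα, AlgEquiv.commutes, div_self ((map_ne_zero_iff _ (algebraMap K L).injective).mpr hf)])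
    exact ⟨i, by rw [hi, div_mul_cancel₀ _ hα0]⟩
  let χ : (L ≃ₐ[K] L) →* L :=
    { toFun := fun σ => σ α / α
      map_one' := div_self hα0
      map_mul' := fun σ τ => by
        obtain ⟨i, hi⟩ := hσ τ
        obtain ⟨k, hk⟩ := hσ σ
        rw [AlgEquiv.mul_apply, hi, map_mul, map_pow, AlgEquiv.commutes, hk,
          mul_div_cancel_right₀ _ hα0, mul_div_cancel_right₀ _ hα0, ← mul_assoc,
          mul_div_cancel_right₀ _ hα0, mul_comm] }
  have hχ : Function.Injective χ := fun σ τ h => by
    have h1 : σ α = τ α := (div_left_inj' hα0).mp h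
    refine AlgEquiv.coe_toAlgHom_injective (AlgHom.ext_of_adjoin_eq_top hadj ?_)
    intro x hx
    rw [Set.mem_singleton_iff.mp hx]
    exact h1
  have hcyc : IsCyclic (L ≃ₐ[K] L) := isCyclic_of_subgroup_isDomain χ hχ
  refine ⟨hgal, hcyc, ?_⟩
  set m := Module.finrank K L
  have hcard : Nat.card (L ≃ₐ[K] L) = m := IsGalois.card_aut_eq_finrank K L
  have hmn : m ∣ n := by
    obtain ⟨σ, hσgen⟩ := IsCyclic.exists_generator (α := L ≃ₐ[K] L)
    rw [← hcard, ← orderOf_eq_card_of_forall_mem_zpowers hσgen, ← orderOf_injective χ hχ σ]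
    refine orderOf_dvd_of_pow_eq_one ?_
    show (σ α / α) ^ n = 1
    rw [div_pow, ← map_pow, hα, AlgEquiv.commutes,
      div_self ((map_ne_zero_iff _ (algebraMap K L).injective).mpr hf)]
  obtain ⟨g, hg⟩ : α ^ m ∈ Set.range (algebraMap K L) := by
    refine (IsGalois.mem_range_algebraMap_iff_fixed (F := K) (E := L) _).mpr fun σ => ?_
    have h1 : χ σ ^ m = 1 := by
      rw [← map_pow, ← hcard, pow_card_eq_one', map_one]
    have h1' : (σ α / α) ^ m = 1 := h1
    rw [map_pow, ← div_eq_one_iff_eq (pow_ne_zero _ hα0), ← div_pow]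
    exact h1'
  obtain ⟨k, hk⟩ := hmn
  have hm0 : m ≠ 0 := fun h => hn0 (by rw [hk, h, zero_mul])
  have hk0 : k ≠ 0 := fun h => hn0 (by rw [hk, h, mul_zero])
  have hgk : g ^ k = f := (algebraMap K L).injective (by rw [map_pow, hg, ← pow_mul, ← hk, hα])
  have hg0 : g ≠ 0 := fun h => hf (by rw [← hgk, h, zero_pow hk0])
  have hIm : spanSingleton A⁰ g = (I : FractionalIdeal A⁰ K) ^ m := by
    refine eq_of_pow_eq_pow (spanSingleton_ne_zero_iff.mpr hg0) (pow_ne_zero _ I.ne_zero) hk0 ?_
    rw [spanSingleton_pow, hgk, hI, hk, pow_mul]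
  have hone : ClassGroup.mk K I ^ m = 1 := by
    rw [← map_pow, ClassGroup.mk_eq_one_iff, Units.val_pow_eq_pow_val, ← hIm]
    exact ⟨⟨g, by rw [coe_spanSingleton]⟩⟩
  have := orderOf_dvd_of_pow_eq_one hone
  rw [hord] at this
  exact Nat.dvd_antisymm ⟨k, hk⟩ this

end Kummer24
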